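import Mathlib

/-!
Finite data on the exotic `S₅` inside `S₆`, as the stabiliser of a synthematic total.
-/

namespace Cfsg.Agent.Lib.SymSix

open Equiv MulAction

/-- The 5-cycle `(0 1 2 3 4)`. -/
def c5 : Perm (Fin 6) := List.formPerm [0, 1, 2, 3, 4]

/-- Multiplication by 2 modulo 5, fixing 5. -/
def p4 : Perm (Fin 6) := List.formPerm [1, 2, 4, 3]

def c5pows : List (Perm (Fin 6)) := (List.range 5).map fun j => c5 ^ j

/-- The normaliser of `⟨c5⟩`. -/
def agl : List (Perm (Fin 6)) :=
  (List.range 5).flatMap fun j => (List.range 4).map fun i => c5 ^ j * p4 ^ i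

/-- A synthematic total. -/
def total : Finset (Perm (Fin 6)) :=
  [swap 5 0 * swap 1 4 * swap 2 3, swap 5 1 * swap 2 0 * swap 3 4, swap 5 2 * swap 3 1 * swap 4 0,
    swap 5 3 * swap 4 2 * swap 0 1, swap 5 4 * swap 0 3 * swap 1 2].toFinset

/-- The exotic `S₅`, as the stabiliser of a synthematic total. -/
def exoticS5 : Subgroup (Perm (Fin 6)) where
  carrier := {g | total.image (fun s => g * s * g⁻¹) = total}
  one_mem' := by simp
  mul_mem' := fun {g h} (hg : _ = _) (hh : _ = _) => by
    show _ = _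
    conv_rhs => rw [← hg, ← hh, Finset.image_image]
    exact Finset.image_congr fun s _ => by simp [mul_assoc]
  inv_mem' := fun {g} (hg : _ = _) => by
    show _ = _
    conv_lhs => rw [← hg, Finset.image_image]
    exact (Finset.image_congr fun s _ => by simp [mul_assoc]).trans Finset.image_id

theorem mem_exoticS5 {g : Perm (Fin 6)} :
    g ∈ exoticS5 ↔ total.image (fun s => g * s * g⁻¹) = total := Iff.rfl

theorem card_exotic_filter :
    (Finset.univ.filter fun g : Perm (Fin 6) =>
      total.image (fun s => g * s * g⁻¹) = total).card = 120 := by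
  decide +kernel

theorem card_exoticS5 : Nat.card exoticS5 = 120 := by
  rw [← card_exotic_filter, ← Fintype.card_subtype, ← Nat.card_eq_fintype_card]
  rfl

theorem index_exoticS5 : exoticS5.index = 6 := by
  have h := exoticS5.index_mul_card
  rw [card_exoticS5, Nat.card_perm, Nat.card_eq_fintype_card, Fintype.card_fin] at h
  rw [show (6 : ℕ).factorial = 720 from rfl] at h
  omega

theorem agl_le : ∀ a ∈ agl, total.image (fun s => a * s * a⁻¹) = total := by decide +kernel

theorem c5pows_mem_agl : ∀ a ∈ c5pows, a ∈ agl := by decide +kernel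

theorem normalizer_c5 : ∀ g : Perm (Fin 6), g * c5 * g⁻¹ ∈ c5pows → g ∈ agl := by decide +kernel

theorem agl_length : agl.toFinset.card = 20 := by decide +kernel

theorem orderOf_five : ∀ g : Perm (Fin 6), g ^ 5 = 1 → g ≠ 1 → ∃ x, g x = x ∧
    ∀ y, y ≠ x → g y ≠ y := by decide +kernel

theorem cycleType_five : ∀ g : Perm (Fin 6), g ^ 5 = 1 → g ≠ 1 → g.support.card = 5 := by
  decide +kernel

theorem schreier : ∀ g : Perm (Fin 6), g 5 = 0 →
    (total.image (fun s => g * s * g⁻¹) = total ∨
      ∃ a ∈ agl, ((g * a * g) 5 = 5 ∧ g * a * g ∉ agl) ∨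
        ∃ a' ∈ agl, (g⁻¹ * a' * g * a * g) 5 = 5 ∧ g⁻¹ * a' * g * a * g ∉ agl) := by
  decide +kernel

theorem c5pow_to_zero : ∀ k : Fin 6, k ≠ 5 → ∃ a ∈ c5pows, a k = 0 := by decide +kernel

theorem exotic_not_fix : ∀ x : Fin 6, ∃ g : Perm (Fin 6),
    total.image (fun s => g * s * g⁻¹) = total ∧ g x ≠ x := by
  decide +kernel

theorem p4_odd : Perm.sign p4 = -1 ∧ total.image (fun s => p4 * s * p4⁻¹) = total := by
  decide +kernel

end Cfsg.Agent.Lib.SymSix
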