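import Mathlib
import Cfsg.Agent.S5911
import Cfsg.Agent.Lib.Alternating.Basic
import Cfsg.Agent.Lib.SymSix.Data

/-!
The subgroups of index 6 of `S₆`: two conjugacy classes, six members each.
-/

namespace Cfsg.Agent.Lib.SymSix

open Equiv MulAction

instance pretransitiveFin6 : IsPretransitive (Perm (Fin 6)) (Fin 6) :=
  ⟨fun a b => ⟨swap a b, swap_apply_left a b⟩⟩

theorem card_eq_of_index {H : Subgroup (Perm (Fin 6))} (hH : H.index = 6) : Nat.card H = 120 := by
  have h := H.index_mul_card
  rw [hH, Nat.card_perm, Nat.card_eq_fintype_card (α := Fin 6), Fintype.card_fin] at h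
  rw [show (6 : ℕ).factorial = 720 from rfl] at h
  omega

theorem index_stab (x : Fin 6) : (stabilizer (Perm (Fin 6)) x).index = 6 := by
  simp [index_stabilizer_of_transitive]

theorem eq_stab_of_le {H : Subgroup (Perm (Fin 6))} (hH : H.index = 6) {x : Fin 6}
    (hle : H ≤ stabilizer (Perm (Fin 6)) x) : H = stabilizer (Perm (Fin 6)) x :=
  Subgroup.eq_of_le_of_card_ge hle
    (le_of_eq ((card_eq_of_index (index_stab x)).trans (card_eq_of_index hH).symm))

/-- A subgroup of index 6 containing `c5` fixes 5 or is the exotic `S₅`. -/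
theorem eq_stab_or_exotic {H : Subgroup (Perm (Fin 6))} (hH : H.index = 6) (hc : c5 ∈ H) :
    H = stabilizer (Perm (Fin 6)) (5 : Fin 6) ∨ H = exoticS5 := by
  classical
  by_cases hfix : H ≤ stabilizer (Perm (Fin 6)) (5 : Fin 6)
  · exact Or.inl (eq_stab_of_le hH hfix)
  right
  obtain ⟨g₀, hg₀, hg₀5⟩ := SetLike.not_le_iff_exists.mp hfix
  have hpows : ∀ a ∈ c5pows, a ∈ H := by
    intro a ha
    obtain ⟨j, -, rfl⟩ := List.mem_map.mp ha
    exact H.pow_mem hc j
  -- `H` is transitive
  have htrans : ∀ k : Fin 6, ∃ h ∈ H, h 5 = k := by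
    intro k
    rcases eq_or_ne k 5 with rfl | hk
    · exact ⟨1, H.one_mem, rfl⟩
    · obtain ⟨a, ha, ha'⟩ := c5pow_to_zero _ (show g₀ 5 ≠ 5 from hg₀5)
      obtain ⟨b, hb, hb'⟩ := c5pow_to_zero k hk
      exact ⟨b⁻¹ * (a * g₀), H.mul_mem (H.inv_mem (hpows b hb)) (H.mul_mem (hpows a ha) hg₀),
        by simp [ha', ← hb']⟩
  let L := H ⊓ stabilizer (Perm (Fin 6)) (5 : Fin 6)
  have horb : orbit H (5 : Fin 6) = Set.univ := Set.eq_univ_of_forall fun k => by
    obtain ⟨h, hh, hk⟩ := htrans k
    exact ⟨⟨h, hh⟩, hk⟩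
  have hL : Nat.card L = 20 := by
    have h1 := (stabilizer H (5 : Fin 6)).index_mul_card
    rw [index_stabilizer, horb, Set.ncard_univ, Nat.card_eq_fintype_card (α := Fin 6),
      Fintype.card_fin, card_eq_of_index hH] at h1
    have h2 : Nat.card L = Nat.card (stabilizer H (5 : Fin 6)) :=
      Nat.card_congr
        { toFun := fun g => ⟨⟨g.1, g.2.1⟩, g.2.2⟩
          invFun := fun g => ⟨g.1.1, g.1.2, g.2⟩ }
    omega
  -- the Sylow 5-subgroup of `L` is normal
  have hcL : c5 ∈ L := ⟨hc, by show c5 5 = 5; decide⟩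
  have hLagl : ∀ g ∈ L, g ∈ agl := by
    haveI : Fact (Nat.Prime 5) := ⟨by norm_num⟩
    let P : Subgroup L := Subgroup.zpowers ⟨c5, hcL⟩
    have hc5 : orderOf c5 = 5 := orderOf_eq_prime (by decide +kernel) (by decide +kernel)
    have hP : Nat.card P = 5 := by rw [Nat.card_zpowers, Subgroup.orderOf_mk, hc5]
    let S : Sylow 5 L := Sylow.ofCard P (by
      rw [hP, hL, show (20 : ℕ) = 5 * 4 from rfl, Nat.factorization_mul (by norm_num) (by norm_num),
        Finsupp.coe_add, Pi.add_apply, Nat.Prime.factorization_self (by norm_num),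
        Nat.factorization_eq_zero_of_not_dvd (by norm_num : ¬ 5 ∣ 4), add_zero, pow_one])
    have hn : Nat.card (Sylow 5 L) = 1 := by
      have h1 := card_sylow_modEq_one 5 L
      have h2 : Nat.card (Sylow 5 L) ∣ 4 := by
        have := S.card_dvd_index
        have h3 : (S : Subgroup L).index = 4 := by
          have h4 := (S : Subgroup L).index_mul_card
          rw [show (S : Subgroup L) = P from rfl, hP, hL] at h4
          show P.index = 4
          omega
        rwa [h3] at this
      have h5 : Nat.card (Sylow 5 L) ≤ 4 := Nat.le_of_dvd (by norm_num) h2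
      unfold Nat.ModEq at h1
      omega
    haveI : Subsingleton (Sylow 5 L) := (Nat.card_eq_one_iff_unique.mp hn).1
    have hPn : P.Normal := S.normal_of_subsingleton
    intro g hg
    refine normalizer_c5 g ?_
    obtain ⟨k, hk⟩ := Subgroup.mem_zpowers_iff.mp
      (hPn.conj_mem _ (Subgroup.mem_zpowers (⟨c5, hcL⟩ : L)) ⟨g, hg⟩)
    have hk' : c5 ^ k = g * c5 * g⁻¹ := by simpa using congrArg Subtype.val hk
    rw [← hk', ← zpow_mod_orderOf, hc5]
    obtain ⟨m, hm⟩ := Int.eq_ofNat_of_zero_le (Int.emod_nonneg k (show ((5 : ℕ) : ℤ) ≠ 0 by norm_num))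
    have hm5 : m < 5 := by omega
    rw [hm, zpow_natCast]
    exact List.mem_map.mpr ⟨m, List.mem_range.mpr hm5, rfl⟩
  have haglH : ∀ a ∈ agl, a ∈ H := by
    intro a ha
    have hsub : (L : Set (Perm (Fin 6))).toFinset ⊆ agl.toFinset := fun g hg => by
      simpa using hLagl g (by simpa using hg)
    have heq := Finset.eq_of_subset_of_card_le hsub (by
      rw [agl_length, Set.toFinset_card, ← hL, Nat.card_eq_fintype_card]; rfl)
    have : a ∈ (L : Set (Perm (Fin 6))).toFinset := heq ▸ List.mem_toFinset.mpr ha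
    exact (Set.mem_toFinset.mp this).1
  -- hence `H` is inside the exotic `S₅`
  have hle : H ≤ exoticS5 := by
    intro h hh
    rcases eq_or_ne (h 5) 5 with h5 | h5
    · exact agl_le h (hLagl h ⟨hh, h5⟩)
    obtain ⟨a, ha, ha'⟩ := c5pow_to_zero _ h5
    have hah : a * h ∈ H := H.mul_mem (hpows a ha) hh
    have haK : a ∈ exoticS5 := agl_le a (c5pows_mem_agl a ha)
    suffices a * h ∈ exoticS5 by
      have h' := exoticS5.mul_mem (exoticS5.inv_mem haK) this
      rwa [inv_mul_cancel_left] at h'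
    rcases schreier (a * h) (by simpa using ha') with hK | ⟨b, hb, hbad | ⟨b', hb', hbad⟩⟩
    · exact hK
    · exact absurd (hLagl _ ⟨H.mul_mem (H.mul_mem hah (haglH b hb)) hah, hbad.1⟩) hbad.2
    · exact absurd (hLagl _ ⟨H.mul_mem (H.mul_mem (H.mul_mem (H.mul_mem (H.inv_mem hah)
        (haglH b' hb')) hah) (haglH b hb)) hah, hbad.1⟩) hbad.2
  exact Subgroup.eq_of_le_of_card_ge hle
    (le_of_eq (card_exoticS5.trans (card_eq_of_index hH).symm))

/-- Every subgroup of index 6 of `S₆` is a point stabiliser or conjugate to the exotic one. -/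
theorem index_six_cases {H : Subgroup (Perm (Fin 6))} (hH : H.index = 6) :
    (∃ x : Fin 6, H = stabilizer (Perm (Fin 6)) x) ∨
      ∃ g : Perm (Fin 6), exoticS5.map (MulAut.conj g).toMonoidHom = H := by
  classical
  haveI : Fact (Nat.Prime 5) := ⟨by norm_num⟩
  obtain ⟨c, hc⟩ := exists_prime_orderOf_dvd_card' 5 (G := H) (by rw [card_eq_of_index hH]; norm_num)
  have hc' : orderOf (c : Perm (Fin 6)) = 5 := by rw [Subgroup.orderOf_coe, hc]
  have hc5 : orderOf c5 = 5 := orderOf_eq_prime (by decide +kernel) (by decide +kernel)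
  have hcyc : ∀ g : Perm (Fin 6), orderOf g = 5 → g.cycleType = {5} := by
    intro g hg
    have hne : g ≠ 1 := fun h => by rw [h, orderOf_one] at hg; omega
    obtain ⟨n, hn⟩ := Perm.cycleType_prime_order (show (orderOf g).Prime by rw [hg]; norm_num)
    have hs := Perm.sum_cycleType g
    rw [cycleType_five g (by rw [← hg, pow_orderOf_eq_one]) hne, hn, hg] at hs
    simp at hs
    rw [hn, hg]
    simp [hs]
  obtain ⟨σ, hσ⟩ := isConj_iff.mp (Perm.isConj_iff_cycleType_eq.mpr
    ((hcyc _ hc').trans (hcyc _ hc5).symm))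
  let H' := H.map (MulAut.conj σ).toMonoidHom
  have hH' : H'.index = 6 := by
    rw [Subgroup.index_map_of_bijective (MulAut.conj σ).bijective, hH]
  rcases eq_stab_or_exotic hH' ⟨c, c.2, hσ⟩ with h | h
  · refine Or.inl ⟨σ⁻¹ (5 : Fin 6), eq_stab_of_le hH fun g hg => ?_⟩
    have : MulAut.conj σ g ∈ stabilizer (Perm (Fin 6)) (5 : Fin 6) := h ▸ ⟨g, hg, rfl⟩
    simp only [mem_stabilizer_iff, Perm.smul_def, MulAut.conj_apply, Perm.mul_apply] at this ⊢
    exact (Perm.eq_inv_iff_eq).mpr this
  · refine Or.inr ⟨σ⁻¹, ?_⟩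
    rw [← h, Subgroup.map_map]
    convert Subgroup.map_id H
    ext g : 1
    simp [MulAut.conj_apply, mul_assoc]

theorem exotic_ne_stab (g : Perm (Fin 6)) (x : Fin 6) :
    exoticS5.map (MulAut.conj g).toMonoidHom ≠ stabilizer (Perm (Fin 6)) x := by
  intro h
  obtain ⟨k, hk, hkx⟩ := exotic_not_fix (g⁻¹ x)
  apply hkx
  have : MulAut.conj g k ∈ stabilizer (Perm (Fin 6)) x := h ▸ ⟨k, hk, rfl⟩
  simp only [mem_stabilizer_iff, Perm.smul_def, MulAut.conj_apply, Perm.mul_apply] at this
  exact (Perm.eq_inv_iff_eq).mpr this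

theorem normalizer_exotic : Subgroup.normalizer (exoticS5 : Set (Perm (Fin 6))) = exoticS5 := by
  refine le_antisymm ?_ Subgroup.le_normalizer
  set N := Subgroup.normalizer (exoticS5 : Set (Perm (Fin 6)))
  have hle : exoticS5 ≤ N := Subgroup.le_normalizer
  rcases Lib.Alternating.perm_index_cases (α := Fin 6) (by simp) N with h | h | h
  · exfalso
    haveI : exoticS5.Normal := Subgroup.normalizer_eq_top_iff.mp h
    have hK := card_exoticS5
    rcases Lib.Alternating.normal_perm (α := Fin 6) (by simp) exoticS5 with hb | hb | hb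
    · rw [hb, Subgroup.card_bot] at hK; omega
    · have := index_exoticS5; rw [hb, alternatingGroup.index_eq_two] at this; omega
    · have := index_exoticS5; rw [hb, Subgroup.index_top] at this; omega
  · exfalso
    have := hle (show p4 ∈ exoticS5 from p4_odd.2)
    rw [h, Perm.mem_alternatingGroup, p4_odd.1] at this
    exact absurd this (by decide)
  · have h' := Subgroup.index_antitone hle
    rw [index_exoticS5] at h'
    simp only [Fintype.card_fin] at h
    refine (Subgroup.eq_of_le_of_card_ge hle ?_).symm.le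
    rw [card_eq_of_index (show N.index = 6 by omega), card_exoticS5]

theorem conj_eq_iff (g h : Perm (Fin 6)) :
    exoticS5.map (MulAut.conj g).toMonoidHom = exoticS5.map (MulAut.conj h).toMonoidHom ↔
      h⁻¹ * g ∈ exoticS5 := by
  conv_rhs => rw [← normalizer_exotic, Subgroup.mem_normalizer_iff]
  constructor
  · intro he x
    have := SetLike.ext_iff.mp he (g * x * g⁻¹)
    rw [Subgroup.map_equiv_eq_comap_symm', Subgroup.map_equiv_eq_comap_symm'] at this
    simp only [Subgroup.mem_comap, MulEquiv.coe_toMonoidHom, MulAut.conj_symm_apply] at this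
    convert this using 2 <;> group
  · intro hn
    ext y
    rw [Subgroup.map_equiv_eq_comap_symm', Subgroup.map_equiv_eq_comap_symm']
    simp only [Subgroup.mem_comap, MulEquiv.coe_toMonoidHom, MulAut.conj_symm_apply]
    convert hn (g⁻¹ * y * g) using 2
    group

theorem nat_card_index_six :
    Nat.card {H : Subgroup (Perm (Fin 6)) // H.index = 6} = 12 := by
  classical
  let f : Fin 6 ⊕ (Perm (Fin 6) ⧸ exoticS5) → {H : Subgroup (Perm (Fin 6)) // H.index = 6} :=
    fun s => match s with
      | Sum.inl x => ⟨stabilizer (Perm (Fin 6)) x, index_stab x⟩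
      | Sum.inr q => ⟨exoticS5.map (MulAut.conj q.out).toMonoidHom, by
          rw [Subgroup.index_map_of_bijective (MulAut.conj q.out).bijective, index_exoticS5]⟩
  have hf : Function.Bijective f := by
    constructor
    · rintro (x | q) (y | r) h <;> have h' := congrArg Subtype.val h <;> simp only [f] at h'
      · congr 1
        by_contra hxy
        obtain ⟨z, hzx, hzy⟩ := (by decide +kernel : ∀ x y : Fin 6, ∃ z, z ≠ x ∧ z ≠ y) x y
        have : swap y z ∈ stabilizer (Perm (Fin 6)) x := swap_apply_of_ne_of_ne hxy hzx.symm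
        rw [h'] at this
        exact hzy (by simpa using this)
      · exact absurd h'.symm (exotic_ne_stab _ _)
      · exact absurd h' (exotic_ne_stab _ _)
      · congr 1
        rw [← QuotientGroup.out_eq' q, ← QuotientGroup.out_eq' r, eq_comm, QuotientGroup.eq]
        exact (conj_eq_iff _ _).mp h'
    · rintro ⟨H, hH⟩
      rcases index_six_cases hH with ⟨x, rfl⟩ | ⟨g, rfl⟩
      · exact ⟨Sum.inl x, rfl⟩
      · refine ⟨Sum.inr (QuotientGroup.mk g), Subtype.ext ?_⟩
        simp only [f]
        rw [conj_eq_iff, ← QuotientGroup.eq, QuotientGroup.out_eq']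
  rw [← Nat.card_congr (Equiv.ofBijective f hf), Nat.card_sum, Nat.card_eq_fintype_card (α := Fin 6),
    Fintype.card_fin]
  show 6 + exoticS5.index = 12
  rw [index_exoticS5]

theorem nonempty_mulEquiv_S5 {H : Subgroup (Perm (Fin 6))} (hH : H.index = 6) :
    Nonempty (H ≃* Perm (Fin 5)) := by
  obtain ⟨ψ, x, hψ⟩ := S5911.exists_aut (by simp) H (by simpa using hH)
  let φ : Perm {y : Fin 6 // y ≠ x} →* Perm (Fin 6) := Perm.ofSubtype
  have hr : φ.range = H.map ψ.toMonoidHom := by
    ext g
    constructor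
    · rintro ⟨k, rfl⟩
      refine ⟨ψ.symm (φ k), ?_, by simp⟩
      show ψ.symm (φ k) ∈ H
      rw [hψ, MulEquiv.apply_symm_apply]
      exact Perm.ofSubtype_apply_of_not_mem k (by simp)
    · rintro ⟨h, hh, rfl⟩
      have hfix : ψ h x = x := (hψ h).mp hh
      exact ⟨(ψ h).subtypePerm (fun y => (ψ h).injective.ne_iff' hfix),
        Perm.ofSubtype_subtypePerm _ fun y hy e => hy (by rw [e, hfix])⟩
  exact ⟨(((ψ.subgroupMap H).trans (MulEquiv.subgroupCongr hr.symm)).trans
    (MonoidHom.ofInjective Perm.ofSubtype_injective).symm).trans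
    (Equiv.permCongrHom ((Fintype.equivFinOfCardEq (by simp))))⟩

end Cfsg.Agent.Lib.SymSix
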